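import Cfsg.Agent.PS4.Loc3
import Cfsg.Agent.CIT.L2Conj

/-! A relation in the centraliser of an involution obtained from the Feit-Thompson theorem on
self-centralising elements of order three. -/

set_option autoImplicit false

namespace Cfsg.Agent.AGL

open Subgroup Cfsg.Agent.X32 Cfsg.Agent.PS4

variable {G : Type*} [Group G]

/-- no section `S4` with prescribed generators -/
def NoS4 (L : Type*) [Group L] : Prop := ∀ c : L, c * c = 1 → ∀ x : L, x ^ 3 = 1 → (c * x) ^ 3 = 1 →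
  ∀ q : L, q * c = c * q → q * x * q⁻¹ = x⁻¹ → c = 1 ∨ x = 1

theorem NoS4.congr {L L' : Type*} [Group L] [Group L'] (h : NoS4 L') (e : L ≃* L') : NoS4 L :=
  fun c a x b d q f g => (h (e c) (by rw [← map_mul, a, map_one]) (e x) (by rw [← map_pow, b, map_one])
    (by rw [← map_mul, ← map_pow, d, map_one]) (e q) (by rw [← map_mul, f, map_mul])
    (by rw [← map_inv, ← map_mul, ← map_mul, g, map_inv])).imp e.map_eq_one_iff.1 e.map_eq_one_iff.1

set_option synthInstance.maxSize 4000 in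
set_option synthInstance.maxHeartbeats 200000 in
theorem noS4_A5 : NoS4 (alternatingGroup (Fin 5)) := fun c a x b d q f g =>
  ((by decide +kernel : ∀ c : Equiv.Perm (Fin 5), c * c = 1 → Equiv.Perm.sign c = 1 →
    ∀ x : Equiv.Perm (Fin 5), x ^ 3 = 1 → (c * x) ^ 3 = 1 → ∀ q : Equiv.Perm (Fin 5),
      q * c = c * q → q * x * q⁻¹ = x⁻¹ → Equiv.Perm.sign q = 1 → c = 1 ∨ x = 1) c
    (congrArg Subtype.val a) c.2 x (congrArg Subtype.val b) (congrArg Subtype.val d) q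
    (congrArg Subtype.val f) (congrArg Subtype.val g) q.2).imp Subtype.ext Subtype.ext

theorem ft_s4 [Finite G] {x : G} (h3 : x ^ 3 = 1) (h1 : x ≠ 1)
    (hC : ∀ g, Commute g x → g ∈ zpowers x) :
    (∃ (N : Subgroup G) (_ : N.Normal), ¬ 3 ∣ Nat.card N ∧ NoS4 (G ⧸ N)) ∨
      ∀ s t : G, orderOf s = 2 → orderOf t = 2 → IsConj s t := by
  have := Fact.mk Nat.prime_two
  obtain ⟨N, hN, -, a, b⟩ | ⟨N, hN, -, a, ⟨e⟩⟩ | ⟨⟨e⟩⟩ := S3331.result (zpowers x)
    (by rw [Nat.card_zpowers, ord3 h3 h1]) (le_antisymm (fun g hg => hC g (hg x (mem_zpowers x)).symm)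
      (by rintro _ ⟨k, rfl⟩ _ ⟨l, rfl⟩; exact zpow_mul_comm x l k))
  · refine Or.inl ⟨N, hN, (Nat.prime_three.coprime_iff_not_dvd).1 a.symm, b.elim
      (fun b c h _ _ _ _ _ _ => Or.inl (He5.eq_one_of_odd_two (m := 1) (k := 1)
        (by rw [show 2 * 1 + 1 = 3 from rfl, ← b, pow_card_eq_one']) (by rwa [pow_one, pow_two])))
      fun ⟨e⟩ => NoS4.congr (by unfold NoS4; decide +kernel) e⟩
  · obtain ⟨k, hk⟩ := IsPGroup.iff_card.1 (show IsPGroup 2 N from fun g => ⟨1, Subtype.ext (a g g.2)⟩)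
    exact Or.inl ⟨N, hN, fun b => absurd (Nat.prime_three.dvd_of_dvd_pow (hk ▸ b)) (by decide),
      noS4_A5.congr e⟩
  · have := Fact.mk (by norm_num : Nat.Prime 7)
    refine Or.inr fun s t hs ht => ?_
    simpa using e.symm.toMonoidHom.map_isConj (CIT.L2C.isConj_two (s := e s) (t := e t)
      (by rwa [e.orderOf_eq]) (by rwa [e.orderOf_eq]))

theorem ft_q8 [Finite G] {t x q : G} (ht : t * t = 1) (t1 : t ≠ 1) (x3 : x ^ 3 = 1) (x1 : x ≠ 1)
    (xt : Commute x t) (qt : Commute q t) (q2 : q * q = 1) (qx : q * x * q⁻¹ = x⁻¹)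
    (hC : ∀ g, Commute g t → Commute g x → g ∈ zpowers x ∨ g * t ∈ zpowers x) {c d : G}
    (c2 : c * c = t) (qc : q * c * q⁻¹ = c⁻¹) (cx : (c * x) ^ 3 = 1 ∨ (c * x) ^ 3 = t)
    (d2 : d * d = t) (qd : q * d * q⁻¹ = d⁻¹) (dx : (d * x) ^ 3 = 1 ∨ (d * x) ^ 3 = t) :
    (c * d * x) ^ 3 = 1 ∨ (c * d * x) ^ 3 = t := by
  have hn : ((zpowers t).subgroupOf (centralizer {t})).Normal := ⟨fun u hu c => by
    rcases (mem_zpowers_inv ht).1 (mem_subgroupOf.1 hu) with e | e <;>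
      rw [mem_subgroupOf, coe_mul, coe_mul, e]
    · simp
    · rw [coe_inv, conj_of_comm (mem_cent.1 c.2)]; exact mem_zpowers t⟩
  let π := QuotientGroup.mk' ((zpowers t).subgroupOf (centralizer {t}))
  have k1 : ∀ g : centralizer {t}, π g = 1 ↔ (g : G) = 1 ∨ (g : G) = t := fun g =>
    (QuotientGroup.eq_one_iff g).trans (mem_zpowers_inv ht)
  have n3 : ∀ g, g ^ 3 = 1 → g ≠ t := fun g a b => t1 (He5.eq_one_of_odd_two (m := 1) (k := 1)
    (b ▸ a) (by rwa [pow_one, pow_two]))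
  let X : centralizer {t} := ⟨x, mem_cent.2 xt⟩
  let Q : centralizer {t} := ⟨q, mem_cent.2 qt⟩
  have X3 : π X ^ 3 = 1 := by rw [← map_pow]; exact (k1 _).2 (Or.inl x3)
  have X1 : π X ≠ 1 := fun e => ((k1 X).1 e).elim x1 (n3 x x3)
  have hC' : ∀ g, Commute g (π X) → g ∈ zpowers (π X) := fun g hg => by
    obtain ⟨g, rfl⟩ := QuotientGroup.mk'_surjective _ g
    have e := (k1 (X⁻¹ * (g * X * g⁻¹))).1 (by
      rw [map_mul, map_mul, map_mul, map_inv, map_inv, conj_of_comm hg, inv_mul_cancel])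
    rw [coe_mul, coe_inv, inv_mul_eq_one, inv_mul_eq_iff_eq_mul] at e
    rcases e with e | e
    · rw [← MonoidHom.map_zpowers]
      rcases hC g (mem_cent.1 g.2) (comm_of_conj e.symm) with ⟨i, a⟩ | ⟨i, a⟩
      · exact ⟨X ^ i, zpow_mem (mem_zpowers X) i, congrArg π (Subtype.ext a)⟩
      · refine ⟨X ^ i, zpow_mem (mem_zpowers X) i, ?_⟩
        rw [show X ^ i = g * ⟨t, mem_cent.2 (Commute.refl t)⟩ from Subtype.ext a, map_mul,
          (k1 ⟨t, _⟩).2 (Or.inr rfl), mul_one]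
    · have : ((g : G) * x * (g : G)⁻¹) ^ 3 = 1 := by rw [conj_pow, x3]; simp
      rw [show (g : G) * x * (g : G)⁻¹ = x * t from e, xt.mul_pow, x3, pow_succ, pow_two, ht] at this
      exact absurd (by simpa using this) t1
  have ct : ∀ {c}, c * c = t → c ∈ centralizer {t} := fun h => mem_cent.2 (h ▸ (Commute.refl _).mul_right
    (Commute.refl _))
  have sq : ∀ {c} (h : c * c = t), π ⟨c, ct h⟩ * π ⟨c, ct h⟩ = 1 := fun h => by
    rw [← map_mul]; exact (k1 _).2 (Or.inr h)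
  rcases ft_s4 X3 X1 hC' with ⟨N, hN, a, b⟩ | h
  · have key : ∀ {c} (h : c * c = t), q * c * q⁻¹ = c⁻¹ → (c * x) ^ 3 = 1 ∨ (c * x) ^ 3 = t →
        π ⟨c, ct h⟩ ∈ N :=
      fun {c} h u v => (QuotientGroup.eq_one_iff _).1 ((b _ (by rw [← QuotientGroup.mk_mul, sq h]; rfl)
        (π X) (by rw [← QuotientGroup.mk_pow, X3]; rfl) (by
          rw [← QuotientGroup.mk_mul, ← QuotientGroup.mk_pow, ← map_mul, ← map_pow,
            (k1 ((⟨c, ct h⟩ * X) ^ 3)).2 v]; rfl) (π Q) (by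
          rw [← QuotientGroup.mk_mul, ← QuotientGroup.mk_mul, ← mul_inv_eq_iff_eq_mul.1
            (show π Q * π ⟨c, ct h⟩ * (π Q)⁻¹ = π ⟨c, ct h⟩ by
              rw [cjm π (c := ⟨c, ct h⟩⁻¹) (Subtype.ext u), map_inv, He5.inv_self (sq h)])]) (by
          rw [← QuotientGroup.mk_inv, ← QuotientGroup.mk_mul, ← QuotientGroup.mk_mul,
            cjm π (c := X⁻¹) (Subtype.ext qx), map_inv, QuotientGroup.mk_inv])).resolve_right
        fun e => X1 (not_mem3 a X3 ((QuotientGroup.eq_one_iff _).1 e)))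
    refine (k1 ((⟨c, ct c2⟩ * ⟨d, ct d2⟩ * X) ^ 3)).1 ?_
    rw [map_pow, map_mul, map_mul]
    exact cube_fpf X3 (fun m u v => not_mem3 a (by
      rcases (mem_zp3 X3).1 (hC' m v) with rfl | rfl | rfl <;> simp [X3]) u)
      (mul_mem (key c2 qc cx) (key d2 qd dx))
  · have nq : ¬ Commute q x := fun e => x1 (He5.eq_one_of_odd_two (m := 1) (k := 1) x3 (by
      rw [pow_one, pow_two, mul_eq_one_iff_eq_inv, ← qx, conj_of_comm e]))
    obtain ⟨g, hg⟩ := isConj_iff.1 (h (π Q) (π ⟨c, ct c2⟩) (orderOf_two (by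
      rw [← map_mul]; exact (k1 _).2 (Or.inl q2)) fun e => nq (by
        rcases (k1 Q).1 e with a | a <;> rw [show q = _ from a]
        exacts [Commute.one_left x, xt.symm])) (orderOf_two (sq c2) fun e => t1 (by
        rcases (k1 _).1 e with a | a <;> rw [← c2, show c = _ from a]
        exacts [mul_one 1, ht])))
    obtain ⟨g, rfl⟩ := QuotientGroup.mk'_surjective _ g
    have e := (k1 ((g * Q * g⁻¹)⁻¹ * ⟨c, ct c2⟩)).1 (by
      rw [map_mul, map_inv, map_mul, map_mul, map_inv]; exact inv_mul_eq_one.2 hg)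
    rw [coe_mul, coe_inv, inv_mul_eq_one, inv_mul_eq_iff_eq_mul] at e
    have s := conj_sq (g := (g : G)) q2
    refine absurd (c2.symm.trans ?_) t1
    rcases e with e | e
    · exact (show c = _ from e.symm) ▸ s
    · rw [show c = _ from e, ← pow_two, (mem_cent.1 (g * Q * g⁻¹).2).mul_pow, pow_two, pow_two, ht,
        mul_one]
      exact s

end Cfsg.Agent.AGL
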