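import Cfsg.Agent.AGL.Cert
import Cfsg.Agent.X32.M12Model
import Cfsg.Agent.Class.LinearBasic
import Cfsg.Agent.S0243

/-! `M12` and `PSL(3,3)` are presented by `PM` and `PL`. -/

set_option autoImplicit false
set_option maxRecDepth 100000

namespace Cfsg.Agent.AGL

open Subgroup Cfsg.Agent.Comp Cfsg.Agent.LES Cfsg.Agent.X32 Cfsg.Agent.Spor.ModelM12

theorem iso_of_link {G : Type*} [Group G] [Finite G] {M : Type} [Group M] [IsSimpleGroup M]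
    {P : BN.Pres} {y : ℕ → M} (hy : BN.Link P y) {x : ℕ → G} (a : BN.Sat P x) (b : BN.gen x = ⊤)
    (c : x 0 ≠ 1) : Nonempty (G ≃* M) := by
  obtain ⟨f, hf, d⟩ := link_inj hy a (W := [0]) (by simpa using c)
  refine ⟨(MulEquiv.ofBijective f ⟨hf, fun g => ?_⟩).symm⟩
  obtain ⟨V, rfl⟩ := (BN.mem_gen_iff a.inv g).1 (b ▸ mem_top g)
  exact ⟨_, d V⟩

def wsM : List (List ℕ) :=
  [[0,2,0,3,0,3,0,3,0,3,0,2,0,3,0,2,0,2,0,3,0,2,0,3,0,3,0,2,0,3,0,2,0,2,0,2],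
  [0,3,0,3,0,3,0,2,0,3,0,2,0,2,0,3,0,2,0,3,0,3,0,2,0,3,0,2,0,2,0,2,0,2,0,3],
  [0,2,0,2,0,2,0,2,0,3,0,2,0,3,0,3,0,2,0,3,0,2,0,2,0,3,0,2,0,3,0,3,0,3,0,3],
  [0,3,0,2,0,2,0,2,0,3,0,2,0,2,0,2,0,2,0,3,0,3,0,3,0,3,0,2,0,3,0,3,0,3,0,2],
  [2,0,3,0,2,0,3,0], [0,2,0,3,0,2,0,3], [2,0,3], [0,2,0,3,0,2,0,3,0],
  [3,0,3,0,3,0,2,0,2,0,3,0,2,0,3,0,3,0,2,0,2,0,2],
  [3,0,3,0,3,0,3,0,2,0,2,0,3,0,3,0,2,0,2,0,2,0,2]]

theorem wsM_mem (k : ℕ) : wp ns (BN.nth [] wsM k) ∈ MM :=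
  BN.nth_prop (fun W => wp ns W ∈ MM) [] wsM (one_mem _)
    (mem_of_wordsIn (by decide +kernel)) k

noncomputable def yM (k : ℕ) : MM := ⟨_, wsM_mem k⟩

theorem coe_evM (W : List ℕ) : (BN.ev yM W : MM) = wp ns (BN.subst wsM W) := by
  induction W with
  | nil => rfl
  | cons k W ih =>
    have : BN.subst wsM (k :: W) = BN.appendL (BN.nth [] wsM k) (BN.subst wsM W) := rfl
    rw [BN.ev_cons, coe_mul, ih, this, BN.appendL_eq, wp_append]; rfl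

theorem evM_eq {U V : List ℕ} (h : eqW 32 5 ns (BN.subst wsM U) (BN.subst wsM V) = true) :
    BN.ev yM U = BN.ev yM V :=
  Subtype.ext (by rw [coe_evM, coe_evM, wp_eq_of_eqW ctx h])

theorem satM : BN.Sat PM yM := by
  have out : ∀ k, PM.inv.length ≤ k → yM k = 1 := fun k hk =>
    Subtype.ext (by
      change wp ns (BN.nth [] wsM k) = 1
      rw [BN.nth_of_le [] wsM k hk]; rfl)
  refine ⟨out, BN.inv_of_lt out fun k hk => ?_, fun r hr => ?_⟩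
  · have : allLT 10 (fun k => eqW 32 5 ns (BN.subst wsM [PM.I k, k]) (BN.subst wsM [])) = true := by
      decide +kernel
    simpa using evM_eq ((allLT_iff _ _).1 this k hk)
  · have : allL PM.rels (fun r => eqW 32 5 ns (BN.subst wsM r) (BN.subst wsM [])) = true := by
      decide +kernel
    exact evM_eq ((allL_iff _ _).1 this r hr)

theorem topM : BN.gen yM = ⊤ := by
  apply map_injective MM.subtype_injective
  rw [← MonoidHom.range_eq_map, range_subtype]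
  refine le_antisymm (map_subtype_le _) (gen_le_iff.2 fun u hu => ?_)
  have key : ∀ W, eqW 32 5 ns (BN.subst wsM W) u = true → wp ns u ∈ (BN.gen yM).map MM.subtype :=
    fun W h => ⟨_, BN.ev_mem_gen yM W, by rw [coe_subtype, coe_evM, wp_eq_of_eqW ctx h]⟩
  simp only [G_ss0, List.mem_cons, List.not_mem_nil, or_false] at hu
  rcases hu with rfl | rfl
  · exact key [4, 7] (by decide +kernel)
  · exact key [2, 8, 7, 9, 8, 3, 9, 1] (by decide +kernel)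

theorem isoM {G : Type*} [Group G] [Finite G] {x : ℕ → G} (a : BN.Sat PM x) (b : BN.gen x = ⊤)
    (c : x 0 ≠ 1) : Cfsg.Spor.IsoM12 G :=
  have := simple12
  (iso_of_link (link_of_bound bM satM topM G_card) a b c).elim fun e => ⟨e.trans equiv.symm⟩

abbrev SL33 := Matrix.SpecialLinearGroup (Fin 3) (ZMod 3)

def lL : List SL33 := [⟨!![1, 1, 0; 0, 1, 0; 0, 0, 1], by decide⟩,
  ⟨!![1, 2, 0; 0, 1, 0; 0, 0, 1], by decide⟩, ⟨!![1, 0, 0; 0, 1, 1; 0, 0, 1], by decide⟩,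
  ⟨!![1, 0, 0; 0, 1, 2; 0, 0, 1], by decide⟩, ⟨!![1, 0, 1; 0, 1, 0; 0, 0, 1], by decide⟩,
  ⟨!![1, 0, 2; 0, 1, 0; 0, 0, 1], by decide⟩, ⟨!![1, 0, 0; 0, 2, 0; 0, 0, 2], by decide⟩,
  ⟨!![2, 0, 0; 0, 2, 0; 0, 0, 1], by decide⟩, ⟨!![2, 0, 0; 0, 0, 1; 0, 1, 0], by decide⟩,
  ⟨!![0, 1, 0; 1, 0, 0; 0, 0, 2], by decide⟩]

set_option synthInstance.maxSize 4000 in
theorem topL : BN.gen (tup lL) = ⊤ := Class.SL_eq_top_of_transvection_mem _ fun i j h c => by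
  obtain e | ⟨W, -, e⟩ := (by decide +kernel : ∀ (c : ZMod 3) (i j : Fin 3), i = j ∨ ∃ W ∈ [[], [0], [1],
    [4], [5], [9, 0, 9], [9, 1, 9], [2], [3], [8, 9, 1, 9, 8], [8, 9, 0, 9, 8], [8, 2, 8], [8, 3, 8]],
    (BN.ev (tup lL) W).1 = Matrix.transvection i j c) c i j
  · exact absurd e h
  exact (Subtype.ext e : BN.ev (tup lL) W = Matrix.SpecialLinearGroup.transvection h c) ▸
    BN.ev_mem_gen _ W

theorem isoL {G : Type*} [Group G] [Finite G] {x : ℕ → G} (a : BN.Sat PL x) (b : BN.gen x = ⊤)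
    (c : x 0 ≠ 1) : Nonempty (G ≃* Matrix.ProjectiveSpecialLinearGroup (Fin 3) (ZMod 3)) := by
  have := Class.PSL_isSimpleGroup (ι := Fin 3) (F := ZMod 3) (by simp)
  have h := S0243.result (F := ZMod 3) (q := 3) (by decide) 3 (by decide)
  refine iso_of_link (link_of_bound bL ((sat_tup (l := lL) (le_refl 10) (by decide +kernel)
    (by decide +kernel)).map (QuotientGroup.mk' _)) ?_ ?_) a b c
  · rw [← BN.map_gen, topL, ← MonoidHom.range_eq_map, QuotientGroup.range_mk']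
  · rw [show ∏ i : Fin 3, (3 ^ 3 - 3 ^ (i : ℕ)) = 11232 by decide] at h
    exact Nat.eq_of_mul_eq_mul_left (n := 2) (by norm_num) ((one_mul _).symm.trans h)

end Cfsg.Agent.AGL
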