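import Cfsg.Agent.AGL.FTQ
import Cfsg.Agent.AGL.Model
import Cfsg.Agent.Char.Nine

/-! Amalgams of two groups `3² : GL₂(3)`. -/

set_option autoImplicit false

namespace Cfsg.Agent.AGL

open Subgroup Cfsg.Agent.Comp Cfsg.Agent.LES Cfsg.Agent.X32 Cfsg.Agent.PS4 Cfsg.Agent.Char.Euclid

variable {G : Type*} [Group G]

/-- `A` has shape `3² : GL₂(3)` with `O₃(A) = V` -/
structure Par (A V : Subgroup G) : Prop where
  le : V ≤ A
  cA : Nat.card A = 432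
  cV : Nat.card V = 9
  e3 : ∀ x ∈ V, x ^ 3 = 1
  cm : ∀ x ∈ V, ∀ y ∈ V, Commute x y
  nm : ∀ g ∈ A, ∀ x ∈ V, g * x * g⁻¹ ∈ V
  sc : ∀ g ∈ A, (∀ x ∈ V, Commute g x) → g ∈ V

/-- a basis -/
def Bas (V : Subgroup G) (a z : G) : Prop := a ∈ V ∧ z ∈ V ∧ a ≠ 1 ∧ z ≠ 1 ∧ z ≠ a ∧ z ≠ a⁻¹

/-- the linear map with the given images of the basis -/
def lin (u v k : V2) : V2 := u ^ k.toAdd.1.val * v ^ k.toAdd.2.val

theorem eq_one_of_inv {v : G} (h : v ^ 3 = 1) (e : v = v⁻¹) : v = 1 :=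
  He5.eq_one_of_odd_two (m := 1) (k := 1) h (by rw [pow_one, pow_two, mul_eq_one_iff_eq_inv]; exact e)

theorem sq_left {q : G} (h : q * q = 1) (x : G) : q * (q * x) = x := by rw [← mul_assoc, h, one_mul]

namespace Par

variable {A V : Subgroup G} {a z : G}

theorem exists_hom (h : Par A V) (b : Bas V a z) : ∃ φ : V2 →* G, Function.Injective φ ∧
    φ.range = V ∧ φ (v2 1 0) = a ∧ φ (v2 0 1) = z ∧ ∀ g u v k, g * a * g⁻¹ = φ u → g * z * g⁻¹ = φ v →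
      g * φ k * g⁻¹ = φ (lin u v k) := by
  obtain ⟨b1, b2, b3, b4, b5, b6⟩ := b
  have i := el2_injective (h.e3 a b1) (h.e3 z b2) (h.cm a b1 z b2) b3 b4 b5 b6
  refine ⟨_, i, range_el2 _ _ _ i h.cV b1 b2, by simp [el2_apply, ZMod.val_one],
    by simp [el2_apply, ZMod.val_one], fun g u v k e f => ?_⟩
  rw [lin, map_mul, map_pow, map_pow, ← e, ← f, conj_pow, conj_pow, conj_mul]; rfl

theorem mem_of_comm (h : Par A V) (b : Bas V a z) {g : G} (hg : g ∈ A) (e : Commute g a)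
    (f : Commute g z) : g ∈ V := by
  obtain ⟨φ, -, r, c, d, l⟩ := h.exists_hom b
  refine h.sc g hg fun x hx => ?_
  obtain ⟨k, rfl⟩ := r.ge hx
  refine comm_of_conj ((l g _ _ k ((conj_of_comm e).trans c.symm)
    ((conj_of_comm f).trans d.symm)).trans (congrArg φ ?_))
  exact (by decide : ∀ k, lin (v2 1 0) (v2 0 1) k = k) k

theorem eq_of_bas {B W : Subgroup G} (h : Par A V) (h' : Par B W) (b : Bas V a z) (b' : Bas W a z) :
    V = W := by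
  obtain ⟨b1, b2, b3, b4, b5, b6⟩ := b
  have i := el2_injective (h.e3 a b1) (h.e3 z b2) (h.cm a b1 z b2) b3 b4 b5 b6
  exact (range_el2 _ _ _ i h.cV b1 b2).symm.trans (range_el2 _ _ _ i h'.cV b'.1 b'.2.1)

theorem bas_conj (h : Par A V) (b : Bas V a z) {g : G} (hg : g ∈ A) :
    Bas V (g * a * g⁻¹) (g * z * g⁻¹) :=
  ⟨h.nm g hg a b.1, h.nm g hg z b.2.1, by simpa using b.2.2.1, by simpa using b.2.2.2.1,
    by simpa using b.2.2.2.2.1, by rw [conj_inv]; simpa using b.2.2.2.2.2⟩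

theorem exists_conj [Finite G] (h : Par A V) (b : Bas V a z) {a' z' : G} (b' : Bas V a' z') :
    ∃ g ∈ A, g * a * g⁻¹ = a' ∧ g * z * g⁻¹ = z' := by
  classical
  obtain ⟨φ, i, r, -⟩ := h.exists_hom b
  let I : MulAction A (G × G) := MulAction.compHom _ (MulAut.conj.comp A.subtype : A →* MulAut G)
  have s : MulAction.stabilizer A (a, z) = V.subgroupOf A := by
    ext g
    exact ⟨fun e => h.mem_of_comm b g.2 (comm_of_conj (congrArg Prod.fst e))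
      (comm_of_conj (congrArg Prod.snd e)),
      fun e => Prod.ext (conj_of_comm (h.cm _ e a b.1)) (conj_of_comm (h.cm _ e z b.2.1))⟩
  have c := (V.subgroupOf A).card_mul_index
  rw [Nat.card_congr (subgroupOfEquivOfLe h.le).toEquiv, h.cV, h.cA, ← s,
    MulAction.index_stabilizer] at c
  let F := (Finset.univ.filter fun k : V2 × V2 => k.1 ≠ 1 ∧ k.2 ≠ 1 ∧ k.2 ≠ k.1 ∧ k.2 ≠ k.1⁻¹).image
    (Prod.map φ φ)
  have m : ∀ {a z}, Bas V a z → (a, z) ∈ F := fun ⟨b1, b2, b3⟩ => by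
    obtain ⟨u, rfl⟩ := r.ge b1
    obtain ⟨v, rfl⟩ := r.ge b2
    refine Finset.mem_image.2 ⟨(u, v), Finset.mem_filter.2 ⟨Finset.mem_univ _, ?_⟩, rfl⟩
    simpa only [← map_one φ, ← map_inv, i.ne_iff] using b3
  have := Set.eq_of_subset_of_ncard_le (s := @MulAction.orbit A _ I.toSMul (a, z)) (t := F)
    (by rintro _ ⟨g, rfl⟩; exact m (h.bas_conj b g.2)) (by
      rw [Set.ncard_coe_finset]
      exact Finset.card_image_le.trans ((by decide +kernel : _ = 48).trans_le (by omega)))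
  obtain ⟨g, e⟩ := this.ge (m b')
  exact ⟨g, g.2, congrArg Prod.fst e, congrArg Prod.snd e⟩

theorem exists_inv [Finite G] (h : Par A V) {q : G} (hq : q ∈ A) (q2 : q * q = 1) :
    ∃ p ∈ A, p * p = 1 ∧ Commute p q ∧ ∀ v ∈ V, p * v * p⁻¹ = v⁻¹ := by
  obtain ⟨a, a1, a2, -⟩ := exists_basis h.cV (a := 1)
  obtain ⟨z, z1⟩ := exists_basis h.cV (a := a)
  have b : Bas V a z := ⟨a1, z1.1, a2, z1.2⟩
  obtain ⟨φ, -, r, c, d, l⟩ := h.exists_hom b
  obtain ⟨p, hp, e, f⟩ := h.exists_conj b (a' := a⁻¹) (z' := z⁻¹) ⟨inv_mem a1, inv_mem z1.1,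
    inv_ne_one.2 a2, inv_ne_one.2 z1.2.1, inv_injective.ne z1.2.2.1, inv_injective.ne z1.2.2.2⟩
  have i : ∀ v ∈ V, p * v * p⁻¹ = v⁻¹ := fun v hv => by
    obtain ⟨k, rfl⟩ := r.ge hv
    rw [l p (v2 1 0)⁻¹ (v2 0 1)⁻¹ k (by rw [e, map_inv, c]) (by rw [f, map_inv, d]), ← map_inv φ]
    exact congrArg φ ((by decide : ∀ k, lin (v2 1 0)⁻¹ (v2 0 1)⁻¹ k = k⁻¹) k)
  have two : ∀ {s t}, s ∈ A → t ∈ A → (∀ v ∈ V, s * v * s⁻¹ = v⁻¹) → (∀ v ∈ V, t * v * t⁻¹ = v⁻¹) →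
      s * t ∈ V := fun {s t} hs ht e f => h.sc _ (mul_mem hs ht) fun v hv => comm_of_conj (by
    rw [show s * t * v * (s * t)⁻¹ = s * (t * v * t⁻¹) * s⁻¹ by group, f v hv, e _ (inv_mem hv), inv_inv])
  have cj : ∀ {s t}, s ∈ A → (∀ v ∈ V, t * v * t⁻¹ = v⁻¹) →
      ∀ v ∈ V, s * t * s⁻¹ * v * (s * t * s⁻¹)⁻¹ = v⁻¹ := fun {s t} hs f v hv => by
    rw [show s * t * s⁻¹ * v * (s * t * s⁻¹)⁻¹ = s * (t * (s⁻¹ * v * s⁻¹⁻¹) * t⁻¹) * s⁻¹ by group,
      f _ (h.nm _ (inv_mem hs) v hv)]; group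
  have p2 : p * p = 1 := eq_one_of_inv (h.e3 _ (two hp hp i i)) (by rw [← i _ (two hp hp i i)]; group)
  have hp' : q * p * q⁻¹ ∈ A := mul_mem (mul_mem hq hp) (inv_mem hq)
  have := h.e3 _ (two hp hp' i (cj hq i))
  refine ⟨p * (q * p * q⁻¹) * p⁻¹, mul_mem (mul_mem hp hp') (inv_mem hp), conj_sq (conj_sq p2), ?_,
    cj hp (cj hq i)⟩
  refine (comm_of_conj ?_).symm
  rw [← mul_inv_eq_one, ← (conj_eq_one_iff (a := p⁻¹)).2 this]
  simp only [pow_succ, pow_zero, mul_inv_rev, He5.inv_self q2, He5.inv_self p2, mul_assoc, one_mul,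
    sq_left p2]

set_option synthInstance.maxSize 4000 in
theorem side [Finite G] (h : Par A V) (hb : Bas V a z) {b p q : G} (bA : b ∈ A) (pA : p ∈ A)
    (qA : q ∈ A) (ab : b⁻¹ * a * b = a * z) (bz : Commute b z) (p2 : p * p = 1)
    (i : ∀ v ∈ V, p * v * p⁻¹ = v⁻¹) (pb : Commute b p) (pq : Commute q p) (qa : Commute q a)
    (qz : q * z * q⁻¹ = z⁻¹) : ∃ m, m * m = 1 ∧ m * a * m⁻¹ = z⁻¹ ∧ Commute m p ∧
      m * q * (m * q) = p ∧ (m * q * b) ^ 3 = 1 ∧ m ∈ A ∧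
      ∀ H : Subgroup G, a ∈ H → z ∈ H → b ∈ H → p ∈ H → q ∈ H → m ∈ H → A ≤ H := by
  obtain ⟨φ, hφ, r, c, d, l⟩ := h.exists_hom hb
  obtain ⟨b1, b2, b3, b4, b5, b6⟩ := id hb
  obtain ⟨n, nA, na, nz⟩ := h.exists_conj hb (a' := z⁻¹) (z' := a⁻¹) ⟨inv_mem b2, inv_mem b1,
    inv_ne_one.2 b4, inv_ne_one.2 b3, inv_injective.ne b5.symm, by rw [inv_inv]; exact b6.symm⟩
  have hv : n * p * n⁻¹ * p ∈ V := h.sc _ (mul_mem (mul_mem (mul_mem nA pA) (inv_mem nA)) pA)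
    fun v hv => comm_of_conj (by
      rw [show n * p * n⁻¹ * p * v * (n * p * n⁻¹ * p)⁻¹ =
        n * (p * (n⁻¹ * (p * v * p⁻¹) * n⁻¹⁻¹) * p⁻¹) * n⁻¹ by group, i v hv,
        i _ (h.nm _ (inv_mem nA) _ (inv_mem hv))]; group)
  have cv : ∀ v ∈ V, ∀ w ∈ V, n * v * n⁻¹ = w → n * p * n⁻¹ * p * n * v * (n * p * n⁻¹ * p * n)⁻¹ = w :=
    fun v _ w hw e => by rw [← conj_of_comm (h.cm _ hv w hw), ← e]; group
  have mp : Commute (n * p * n⁻¹ * p * n) p := by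
    refine comm_of_conj ?_
    rw [← mul_inv_eq_one, ← h.e3 _ hv]
    simp only [pow_succ, pow_zero, mul_inv_rev, He5.inv_self p2, mul_assoc, one_mul, inv_inv]
  have ma := cv a b1 _ (inv_mem b2) na
  have mz := cv z b2 _ (inv_mem b1) nz
  have mA : n * p * n⁻¹ * p * n ∈ A := mul_mem (h.le hv) nA
  generalize n * p * n⁻¹ * p * n = m at mp ma mz mA
  let act : ℕ → V2 → V2 := fun k => lin ([v2 1 2, v2 1 1, v2 2 0, v2 1 0, v2 0 2].getD k 1)
    ([v2 0 1, v2 0 1, v2 0 2, v2 0 2, v2 2 0].getD k 1)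
  have ai : a⁻¹ = φ (v2 2 0) := by rw [← c, ← map_inv φ]; rfl
  have zi : z⁻¹ = φ (v2 0 2) := by rw [← d, ← map_inv φ]; rfl
  have w : ∀ W : List ℕ, (∀ k ∈ W, k ∈ List.range 5) → ∀ k, BN.ev (tup [b, b⁻¹, p, q, m]) W * φ k *
      (BN.ev (tup [b, b⁻¹, p, q, m]) W)⁻¹ = φ (Setup.wk act W k) := fun W hW k =>
    (Setup.walk (S := fun _ => True) (fun j hj k _ => ⟨by
      rw [List.mem_range] at hj
      interval_cases j
      · refine l b _ _ k ?_ ((conj_of_comm bz).trans d.symm)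
        rw [show [v2 1 2, v2 1 1, v2 2 0, v2 1 0, v2 0 2].getD 0 1 = v2 1 0 * v2 0 2 from rfl, map_mul,
          c, ← zi, ← conj_of_comm bz, eq_mul_inv_iff_mul_eq, conj_mul, ← ab]; group
      · refine l b⁻¹ _ _ k ?_ ((conj_of_comm bz.inv_left).trans d.symm)
        rw [inv_inv, ab, ← c, ← d, ← map_mul φ]; rfl
      · exact l p _ _ k ((i a b1).trans ai) ((i z b2).trans zi)
      · exact l q _ _ k ((conj_of_comm qa).trans c.symm) (qz.trans zi)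
      · exact l m _ _ k (ma.trans zi) (mz.trans ai), trivial⟩) hW trivial).1
  have mem : ∀ H : Subgroup G, b ∈ H → p ∈ H → q ∈ H → m ∈ H → ∀ W,
      BN.ev (tup [b, b⁻¹, p, q, m]) W ∈ H := fun H h1 h2 h3 h4 => BN.ev_mem fun k => by
    rcases k with _ | _ | _ | _ | _ | k
    exacts [h1, inv_mem h1, h2, h3, h4, one_mem H]
  have rel : ∀ W : List ℕ, (∀ k ∈ W, k ∈ List.range 5) ∧ Setup.wk act W (v2 1 0) = v2 1 0 ∧
      Setup.wk act W (v2 0 1) = v2 0 1 → BN.ev (tup [b, b⁻¹, p, q, m]) W = 1 := fun W ⟨e, f, g⟩ => by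
    have := h.mem_of_comm hb (mem A bA pA qA mA W) (comm_of_conj (by rw [← c, w W e, f]))
      (comm_of_conj (by rw [← d, w W e, g]))
    exact eq_one_of_inv (h.e3 _ this) (by
      rw [← i _ this, conj_of_comm (mem_cent.1 (mem (centralizer {p}) (mem_cent.2 pb)
        (mem_cent.2 (Commute.refl p)) (mem_cent.2 pq) (mem_cent.2 mp) W)).symm])
  refine ⟨m, by simpa [tup] using rel [4, 4] (by decide +kernel), ma, mp, ?_, ?_, mA,
    fun H h1 h2 h3 h4 h5 h6 g hg => ?_⟩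
  · rw [← He5.inv_self p2, ← mul_eq_one_iff_eq_inv]
    simpa [tup, mul_assoc] using rel [4, 3, 4, 3, 2] (by decide +kernel)
  · simpa [tup, mul_assoc, pow_succ] using rel [4, 3, 0, 4, 3, 0, 4, 3, 0] (by decide +kernel)
  · obtain ⟨c1, c2, c3⟩ := h.bas_conj hb hg
    obtain ⟨u, hu⟩ := r.ge c1
    obtain ⟨v, hv⟩ := r.ge c2
    obtain ⟨W, -, e, f, k⟩ := (by decide +kernel : ∀ u v : V2, u ≠ 1 ∧ v ≠ 1 ∧ v ≠ u ∧ v ≠ u⁻¹ → ∃ W ∈
      [[], [0], [1], [2], [3], [4], [2, 0], [3, 0], [4, 0], [2, 1], [3, 1], [4, 1], [3, 2], [4, 2],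
      [4, 3], [0, 4], [1, 4], [3, 4], [3, 2, 0], [4, 2, 0], [4, 3, 0], [0, 4, 0], [1, 4, 0], [3, 4, 0],
      [3, 2, 1], [4, 2, 1], [4, 3, 1], [0, 4, 1], [1, 4, 1], [3, 4, 1], [0, 4, 2], [1, 4, 2], [0, 4, 3],
      [1, 4, 3], [3, 0, 4], [4, 0, 4], [3, 1, 4], [4, 1, 4], [0, 4, 2, 0], [1, 4, 2, 0], [0, 4, 3, 0],
      [1, 4, 3, 0], [3, 0, 4, 0], [4, 0, 4, 0], [0, 4, 2, 1], [1, 4, 2, 1], [0, 4, 3, 1], [3, 0, 4, 1]],
      (∀ k ∈ W, k ∈ List.range 5) ∧ Setup.wk act W (v2 1 0) = u ∧ Setup.wk act W (v2 0 1) = v) u v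
      (by simpa only [← hu, ← hv, ← map_one φ, ← map_inv φ, hφ.ne_iff] using c3)
    have t : ∀ {y} j, φ j = y → φ (Setup.wk act W j) = g * y * g⁻¹ →
        Commute ((BN.ev (tup [b, b⁻¹, p, q, m]) W)⁻¹ * g) y := fun j e1 e2 => comm_of_conj (by
      rw [mul_inv_rev, mul_assoc, mul_assoc, ← mul_assoc _ g⁻¹, ← mul_assoc g, ← mul_assoc g, ← e2,
        ← w W e, e1]; group)
    obtain ⟨j, hj⟩ := r.ge (h.mem_of_comm hb (mul_mem (inv_mem (mem A bA pA qA mA W)) hg)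
      (t _ c (f ▸ hu)) (t _ d (k ▸ hv)))
    refine (mul_mem_cancel_left (inv_mem (mem H h3 h4 h5 h6 W))).1 ?_
    rw [← hj, ← (by decide : ∀ k, lin (v2 1 0) (v2 0 1) k = k) j, lin, map_mul, map_pow, map_pow, c, d]
    exact mul_mem (pow_mem h1 _) (pow_mem h2 _)

theorem cent_zt (h : Par A V) (hb : Bas V a z) {t g : G} (tA : t ∈ A) (ta : t * a * t⁻¹ = a⁻¹)
    (tz : Commute t z) (gA : g ∈ A) (gz : Commute g z) (gt : Commute g t) :
    g ∈ zpowers z ∨ g * t ∈ zpowers z := by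
  obtain ⟨φ, hφ, r, c, d, l⟩ := h.exists_hom hb
  have e : ∀ k, t * φ k * t⁻¹ = φ (lin (v2 1 0)⁻¹ (v2 0 1) k) := fun k =>
    l t _ _ k (by rw [ta, map_inv φ, c]) ((conj_of_comm tz).trans d.symm)
  have key : ∀ g ∈ A, Commute g a → Commute g z → Commute g t → g ∈ zpowers z := fun g a1 a2 a3 a4 => by
    obtain ⟨k, rfl⟩ := r.ge (h.mem_of_comm hb a1 a2 a3)
    rw [(by decide : ∀ k, lin (v2 1 0)⁻¹ (v2 0 1) k = k → k = v2 0 1 ^ k.toAdd.2.val) k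
      (hφ ((e k).symm.trans (conj_of_comm a4.symm))), map_pow, d]
    exact pow_mem (mem_zpowers z) _
  obtain ⟨k, hk⟩ := r.ge (h.nm g gA a hb.1)
  rcases (by decide : ∀ k, lin (v2 1 0)⁻¹ (v2 0 1) k = k⁻¹ → k = 1 ∨ k = v2 1 0 ∨ k = (v2 1 0)⁻¹) k
    (hφ (by rw [← e, map_inv φ, hk, conj_inv, ← ta, ← mul_assoc, ← mul_assoc, ← gt.eq,
      mul_assoc _ g⁻¹, gt.inv_inv.eq]; group)) with rfl | rfl | rfl
  · exact absurd (by simpa using hk.symm) hb.2.2.1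
  · exact Or.inl (key g gA (comm_of_conj (hk.symm.trans c)) gz gt)
  · refine Or.inr (key _ (mul_mem gA tA) (comm_of_conj ?_) (gz.mul_left tz)
      (gt.mul_left (Commute.refl t)))
    rw [show g * t * a * (g * t)⁻¹ = g * (t * a * t⁻¹) * g⁻¹ by group, ta, ← conj_inv, ← hk, map_inv φ,
      inv_inv, c]

theorem exists_fix [Finite G] {B W : Subgroup G} (h : Par A V) (h' : Par B W) (VB : V ≤ B)
    (WA : W ≤ A) (ne : V ≠ W) {q : G} (qA : q ∈ A) (q2 : q * q = 1)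
    (i : ∀ v ∈ W, q * v * q⁻¹ = v⁻¹) : ∃ a ∈ V, Commute q a ∧ a ∉ W := by
  by_contra! c
  have j : ∀ v ∈ V, q * v * q⁻¹ = v⁻¹ := fun v hv => by
    have e : Commute q (v * (q * v * q⁻¹)) := comm_of_conj (by
      rw [← conj_mul, (h.cm v hv _ (h.nm q qA v hv)).eq, He5.inv_self q2]
      simp only [mul_assoc, sq_left q2, q2, mul_one])
    have m := mul_mem hv (h.nm q qA v hv)
    exact eq_inv_of_mul_eq_one_right (eq_one_of_inv (h.e3 _ m)
      ((conj_of_comm e).symm.trans (i _ (c _ m e))))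
  refine ne (eq_of_le_of_card_ge (fun v hv => h'.sc v (VB hv) fun w hw => ?_) (by rw [h.cV, h'.cV]))
  have u1 : v * w * v⁻¹ * w⁻¹ ∈ V := by
    rw [mul_assoc, mul_assoc, ← mul_assoc w]
    exact mul_mem hv (h.nm w (WA hw) _ (inv_mem hv))
  have u2 : v * w * v⁻¹ * w⁻¹ ∈ W := mul_mem (h'.nm v (VB hv) w hw) (inv_mem hw)
  refine commutatorElement_eq_one_iff_commute.1 (eq_one_of_inv (h.e3 _ u1) ?_)
  change v * w * v⁻¹ * w⁻¹ = (v * w * v⁻¹ * w⁻¹)⁻¹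
  rw [← j _ u1, ← conj_mul, ← conj_mul, ← conj_mul, j v hv, i w hw, j _ (inv_mem hv), i _ (inv_mem hw),
    ← conj_of_comm ((h.cm v hv _ u1).inv_left.mul_left (h'.cm w hw _ u2).inv_left)]
  group

theorem main [Finite G] {B W : Subgroup G} (h : Par A V) (h' : Par B W) (VB : V ≤ B)
    (WA : W ≤ A) (ne : V ≠ W) (top : A ⊔ B = ⊤) {y : G} (yV : y ∈ V) (yW : y ∈ W) (y1 : y ≠ 1)
    (hN : ∀ g, g * y * g⁻¹ ∈ zpowers y → g ∈ A ⊓ B) : Cfsg.Spor.IsoM12 G ∨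
      Nonempty (G ≃* Matrix.ProjectiveSpecialLinearGroup (Fin 3) (ZMod 3)) := by
  obtain ⟨q, qB, q2, -, iq⟩ := h'.exists_inv (one_mem B) (mul_one 1)
  have qA := (hN q (iq y yW ▸ inv_mem (mem_zpowers y))).1
  obtain ⟨p, pA, p2, pq, ip⟩ := h.exists_inv qA q2
  have pB := (hN p (ip y yV ▸ inv_mem (mem_zpowers y))).2
  obtain ⟨a, aV, qa, aW⟩ := h.exists_fix h' VB WA ne qA q2 iq
  obtain ⟨b, bW, pb, bV⟩ := h'.exists_fix h WA VB ne.symm pB p2 ip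
  have bas : ∀ {V W : Subgroup G} {a y}, a ∈ V → a ∉ W → y ∈ V → y ∈ W → y ≠ 1 → Bas V a y :=
    fun h1 h2 h3 h4 h5 => ⟨h1, h3, fun e => h2 (e ▸ one_mem _), h5, fun e => h2 (e ▸ h4),
      fun e => h2 (inv_mem_iff.1 (e ▸ h4))⟩
  obtain ⟨z, ab⟩ : ∃ z, b⁻¹ * a * b = a * z := ⟨a⁻¹ * (b⁻¹ * a * b), by group⟩
  have zV : z ∈ V := (mul_mem_cancel_left aV).1 (ab ▸ by simpa using h.nm _ (inv_mem (WA bW)) a aV)
  have zW : z ∈ W := by
    rw [show z = a⁻¹ * b⁻¹ * a⁻¹⁻¹ * b by rw [inv_inv, mul_assoc, mul_assoc, ← mul_assoc b⁻¹, ab]; group]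
    exact mul_mem (h'.nm _ (inv_mem (VB aV)) _ (inv_mem bW)) bW
  have z1 : z ≠ 1 := fun e => bV (h.mem_of_comm (bas aV aW yV yW y1) (WA bW) (by
    rw [e, mul_one, mul_assoc, inv_mul_eq_iff_eq_mul] at ab; exact ab.symm) (h'.cm b bW y yW))
  have az := h.cm a aV z zV
  have bz := h'.cm b bW z zW
  have cz : ∀ g, Commute g z → g ∈ A := fun g e => (hN g (by
    have : Commute g y := by
      by_contra c
      have : y ≠ z ∧ y ≠ z⁻¹ := ⟨fun f => c (f ▸ e), fun f => c (f ▸ e.inv_right)⟩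
      exact ne (h.eq_of_bas h' ⟨zV, yV, z1, y1, this⟩ ⟨zW, yW, z1, y1, this⟩)
    rw [conj_of_comm this]; exact mem_zpowers y)).1
  obtain ⟨m, m2, ma, mp, mq, mb, mA, gA⟩ := h.side (bas aV aW zV zW z1) (WA bW) pA qA ab bz p2 ip
    pb.symm pq.symm qa (iq z zW)
  obtain ⟨n, n2, nb, nq, np, na, nB, gB⟩ := h'.side (bas bW bV zW zV z1) (inv_mem (VB aV)) qB pB
    (by rw [inv_inv, ← conj_of_comm az, ← ab]; group) az.inv_left q2 iq qa.symm.inv_left pq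
    pb (ip z zV)
  have ki : ∀ {t u w : G}, t * t = 1 → t * u * t⁻¹ = w⁻¹ → t * (u * (t * (w * 1))) = 1 := fun e f => by
    rw [He5.inv_self e] at f
    rw [← mul_assoc, ← mul_assoc, f]; simp
  have kk : ∀ {t u : G}, t * t = 1 → u * u = 1 → Commute t u → t * (u * (t * (u * 1))) = 1 :=
    fun e f g => ki e ((conj_of_comm g).trans (He5.inv_self f).symm)
  have p1 : p ≠ 1 := fun e => z1 (eq_one_of_inv (h.e3 z zV) (by simpa [e] using ip z zV))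
  have mi := He5.inv_self m2
  have ni := He5.inv_self n2
  have pi := He5.inv_self p2
  have qi := He5.inv_self q2
  have npn : n * p * n⁻¹ = q * p := by rw [← np, ni]; simp [mul_assoc, p2]
  have mqm : m * q * m⁻¹ = p * q := by rw [← mq, mi]; simp [mul_assoc, q2]
  have nz : n * z * n⁻¹ = b⁻¹ := by rw [← inv_inv z, ← nb, ni]; simp [mul_assoc, sq_left n2, n2, ni]
  have ma' : m * a⁻¹ * m⁻¹ = z := by rw [← conj_inv, ma, inv_inv]
  have pqp : n * m * q * (n * m)⁻¹ = p := by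
    rw [show n * m * q * (n * m)⁻¹ = n * (m * q * m⁻¹) * n⁻¹ by group, mqm,
      ← conj_mul, npn, conj_of_comm nq, ← pq.eq, mul_assoc, q2, mul_one]
  have c3 := ft_q8 p2 p1 (h'.e3 b bW) (bas bW bV zW zV z1).2.2.1 pb.symm pq.symm q2 (iq b bW)
    (fun g e f => by
      have t : ∀ u, n * u * n⁻¹ ∈ zpowers z → u ∈ zpowers b := fun u ⟨i, hi⟩ =>
        ⟨-i, by
          have : u = n * z ^ i * n⁻¹ := by
            rw [show z ^ i = _ from hi, ni]; simp [mul_assoc, sq_left n2, n2]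
          rw [this, ← conj_zpow, nz]; simp⟩
      have e1 : Commute (n * g * n⁻¹) z := by
        rw [← Commute.inv_right_iff, ← nb]; exact f.map (MulAut.conj n)
      refine (h.cent_zt (bas aV aW zV zW z1) (mul_mem qA pA) (by
        rw [mul_inv_rev, mul_assoc q, mul_assoc q, ← mul_assoc _ p⁻¹, ip a aV, ← mul_assoc,
          conj_of_comm qa.inv_right]) (comm_of_conj (by
        rw [mul_inv_rev, mul_assoc q, mul_assoc q, ← mul_assoc _ p⁻¹, ip z zV, ← mul_assoc,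
          iq _ (inv_mem zW), inv_inv])) (cz _ e1) e1 (npn ▸ e.map (MulAut.conj n))).imp (t g)
        fun k => t _ ?_
      rwa [← npn, conj_mul] at k)
    mq (by simp [mul_assoc, q2, qi, mi]) (Or.inl mb) (d := n * m * (n * p) * (n * m)⁻¹)
    (by rw [conj_mul, np, pqp])
    (by
      rw [conj_inv, show q = n * m * (p * q) * (n * m)⁻¹ by
        rw [← mqm, show n * m * (m * q * m⁻¹) * (n * m)⁻¹ = n * (m * m) * q * (m * m)⁻¹ * n⁻¹ by group,
          m2, inv_one, mul_one, mul_one, conj_of_comm nq], conj_inv, conj_mul, conj_mul]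
      congr 2
      rw [mul_assoc p, ← mul_assoc q, ← nq.eq, mul_assoc n, ← pq.eq, mul_inv_rev n, pi, ni]; group)
    (Or.inr (by
      have e : (n * p * a * q) ^ 3 = 1 := by
        rw [← conj_eq_one_iff (a := p), ← conj_pow, ← na, show p * (n * p * a * q) * p⁻¹ =
          p * n * (p * a * p⁻¹) * (p * q * p⁻¹) by group, ip a aV, conj_of_comm pq, mul_assoc,
          ← qa.inv_right.eq, mul_inv_eq_iff_eq_mul.1 npn, ← pq.eq, mul_assoc p q, ← nq.eq]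
        group
      rw [((nq.mul_left pq).mul_left qa.symm).mul_pow, pow_succ q, pow_two q, q2, one_mul,
        mul_eq_one_iff_eq_inv, qi] at e
      rw [show b = n * m * a * (n * m)⁻¹ by
        rw [show n * m * a * (n * m)⁻¹ = n * (m * a * m⁻¹) * n⁻¹ by group, ma, ← conj_inv, nz, inv_inv],
        conj_mul, conj_pow, e, pqp]))
  have gt : BN.gen (tup [a, a⁻¹, b, b⁻¹, z, z⁻¹, p, q, m, n]) = ⊤ := by
    have k := BN.mem_gen (tup [a, a⁻¹, b, b⁻¹, z, z⁻¹, p, q, m, n])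
    exact top_le_iff.1 (top.ge.trans (sup_le (gA _ (k 0) (k 4) (k 2) (k 6) (k 7) (k 8))
      (gB _ (k 2) (k 4) (k 1) (k 7) (k 6) (k 9))))
  have r6 : a⁻¹ * (b⁻¹ * (a * (b * (z⁻¹ * 1)))) = 1 := by
    rw [← mul_assoc b⁻¹, ← mul_assoc _ b, ab]; simp
  have r16 : m * (q * (m * (q * (p * 1)))) = 1 := by
    rw [← mul_assoc, ← mul_assoc m, ← mul_assoc, mq, mul_one, p2]
  have r20 : n * (p * (n * (p * (q * 1)))) = 1 := by
    rw [← mul_assoc, ← mul_assoc n, ← mul_assoc, np, mul_one, q2]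
  have a1 := (bas aV aW zV zW z1).2.2.1
  refine c3.symm.imp (fun e => isoM (sat_tup le_rfl ?_ ?_) gt a1)
    (fun e => isoL (sat_tup le_rfl ?_ ?_) gt a1)
  all_goals first
    | intro k hk
      have : k < 10 := List.mem_range.1 hk
      interval_cases k <;> first | exact inv_mul_cancel _ | exact mul_inv_cancel _ | assumption
    | refine BN.AllP.forall ⟨k3 (h.e3 a aV), k3 (h'.e3 b bW), k3 (h.e3 z zV), kc az, kc bz, r6,
        kk p2 q2 pq, ki p2 (ip a aV), ki p2 ((conj_of_comm pb).trans (inv_inv b).symm), ki p2 (ip z zV),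
        ki q2 ((conj_of_comm qa).trans (inv_inv a).symm), ki q2 (iq b bW), ki q2 (iq z zW), ki m2 ma,
        kk m2 p2 mp, r16, by simpa [tup, mul_assoc, pow_succ] using mb, ki n2 nb, kk n2 q2 nq, r20,
        by simpa [tup, mul_assoc, pow_succ] using na, ?_, trivial⟩
  · simpa [tup, mul_assoc, pow_succ, mi, ni, p2] using congrArg (· * p) e
  · simpa [tup, mul_assoc, pow_succ, mi, ni] using e

end Par

end Cfsg.Agent.AGL
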